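import Groth.Agent.Lib.BCCrit.Degree0
import Groth.Agent.Lib.BCCrit.DimBound
import Groth.Agent.Lib.EulerConst10.Main
import Groth.Agent.Lib.HilbDesc10.Criterion
import Groth.Agent.Lib.LocFreeHom.Lift
import Groth.Agent.Lib.LocFree8.Basic
import Groth.Agent.Lib.InjFlat13.Structure
import Groth.Agent.Lib.FlatBC.TrivialDesc
import Groth.Agent.Lib.ProjFormula.Iso
import Groth.Agent.Lib.Cube.Pic
import Groth.Agent.Lib.RelProjK.Amp

/-!
# Flatness of a contraction with vanishing higher direct images
-/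

set_option autoImplicit false
set_option linter.style.haveILetI false
set_option backward.isDefEq.respectTransparency false
set_option maxHeartbeats 1000000

universe u

noncomputable section

open CategoryTheory CategoryTheory.Limits AlgebraicGeometry Opposite TopologicalSpace

namespace GrothLib.FlatContr29

variable {X Y S : Scheme.{u}}

/-- Without higher direct images the direct image of a flat sheaf is a bundle. -/
theorem isFinLocFree_push [HasInjectiveResolutions X.Modules] (φ : X ⟶ S) [IsProper φ]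
    [LocallyOfFinitePresentation φ] {F : X.Modules} [F.IsQuasicoherent] (hF : CohB1.IsFP F)
    (hfl : FlatMod.IsFlatOver φ F) (hz : ∀ q, 0 < q → IsZero ((Coh.Rpush φ q).obj F)) :
    FlatMod.IsFinLocFree ((Scheme.Modules.pushforward φ).obj F) := by
  haveI : Coh.IsQCoh F := ‹F.IsQuasicoherent›
  intro y
  obtain ⟨V, hV, hyV, -⟩ := exists_isAffineOpen_mem_and_subset (show y ∈ (⊤ : S.Opens) from trivial)
  obtain ⟨d, hd⟩ := EulerConst10.exists_dim_fiber_le_on (f := φ) hV
  suffices h : ∀ (e q : ℕ), q + e = d + 1 → BCCrit.GoodAll φ F (q : ℤ) y by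
    obtain ⟨U, m, hyU, hφ, -⟩ := BCCrit.exists_free_near0 hF hfl y (h (d + 1) 0 (by omega))
    exact ⟨U, m, hyU, hφ⟩
  intro e
  induction e with
  | zero =>
    intro q hq
    exact (BCCrit.goodAll_of_fiberRank_eq_zero q y
      (BCCrit.fiberRank_eq_zero_of_dim_lt y d q (hd y hyV) (by omega))).1
  | succ e ih =>
    intro q hq
    have h2 := BCCrit.goodAll_pred_of_free (q + 1) (ih (q + 1) (by omega)) (U := ⊤) (n := 0) trivial
      (IsZero.iso ((Scheme.Modules.restrictFunctor (⊤ : S.Opens).ι).map_isZero (hz (q + 1) (by omega)))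
        (BCCrit.isZero_freeMod_zero _))
    rwa [show ((q + 1 : ℕ) : ℤ) - 1 = (q : ℤ) by push_cast; ring] at h2

/-- Pushing a pulled back bundle along a contraction. -/
theorem nonempty_push_pullback (ψ : X ⟶ Y) [QuasiCompact ψ] [QuasiSeparated ψ]
    (hψ : ∀ U : Y.Opens, IsIso (ψ.app U)) {E : Y.Modules} (hE : FlatMod.IsFinLocFree E) :
    Nonempty ((Scheme.Modules.pushforward ψ).obj ((Scheme.Modules.pullback ψ).obj E) ≅ E) := by
  obtain ⟨w⟩ := FlatBC.nonempty_structure_iso_pushforward ψ fun V => (ConcreteCategory.isIso_iff_bijective _).1 (hψ V)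
  haveI := ProjFormula.isIso_projHom ψ hE (Coh.structureModule X)
  obtain ⟨u⟩ : Nonempty (((DCoh.tensorBi (X := X)).obj ((Scheme.Modules.pullback ψ).obj E)).obj (Coh.structureModule X) ≅
      (Scheme.Modules.pullback ψ).obj E) :=
    ⟨(((OX.tensorBraiding (X := X)).app _).app _).symm ≪≫ OX.tensorUnitLeftIso _⟩
  exact ⟨(Scheme.Modules.pushforward ψ).mapIso u.symm ≪≫
    (asIso (ProjFormula.projHom ψ E (Coh.structureModule X))).symm ≪≫
    ((DCoh.tensorBi (X := Y)).obj E).mapIso w.symm ≪≫
    (((OX.tensorBraiding (X := Y)).app _).app _).symm ≪≫ OX.tensorUnitLeftIso E⟩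

theorem isRelAmple_tensorPow (q : Y ⟶ S) {N : Y.Modules} (hN : PicF.IsInvertible N) {n : ℕ} (hn : 0 < n)
    (h : RelAmple.IsRelAmple q N) : RelAmple.IsRelAmple q (CohB1.tensorPow N n) := by
  refine ⟨h.1, fun V => ?_⟩
  let j := (q ⁻¹ᵁ V.1).ι
  have h' := (Ample.isAmple_restrict_iff j _).mp (h.2 V)
  rw [Ample.isAmple_tensorPow_iff (Ample.isInvertible_pullback j hN) hn] at h'
  obtain ⟨e⟩ := Ample.nonempty_pullback_tensorPow j hN n
  rw [← Ample.isAmple_iff_of_iso e, ← Ample.isAmple_restrict_iff] at h'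
  exact h'

open GrothLib.Cube in
open GrothLib.Ample (isInvertible_pullback isInvertible_tensorPow isInvertible_tensorMod) in
theorem flat_contraction [HasInjectiveResolutions X.Modules] [IsLocallyNoetherian S] (φ : X ⟶ S) [IsProper φ]
    [Flat φ] (q : Y ⟶ S) [IsProper q] (ψ : X ⟶ Y) (hψ : ψ ≫ q = φ) (hψO : ∀ U : Y.Opens, IsIso (ψ.app U))
    {L : X.Modules} (hL : PicF.IsInvertible L) {N : Y.Modules} (hN : PicF.IsInvertible N)
    (hNa : RelAmple.IsRelAmple q N) {m : ℕ} (hm : 0 < m)
    (eN : Nonempty ((Scheme.Modules.pullback ψ).obj N ≅ CohB1.tensorPow L m)) {n : ℕ} (hn : 0 < n)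
    (hvan : ∀ (i j : ℕ), 0 < i → 1 ≤ j → IsZero ((Coh.Rpush φ i).obj (CohB1.tensorPow L (j * n)))) :
    Flat q := by
  haveI : LocallyOfFinitePresentation φ := LocProp.locallyOfFinitePresentation_of_isLocallyNoetherian φ
  haveI : LocallyOfFinitePresentation q := LocProp.locallyOfFinitePresentation_of_isLocallyNoetherian q
  haveI : IsProper ψ := by
    haveI : IsProper (ψ ≫ q) := by rw [hψ]; infer_instance
    exact IsProper.of_comp ψ q
  have hNn := isInvertible_tensorPow hN n
  have hfree : ∀ a, 1 ≤ a → FlatMod.IsFinLocFree ((Scheme.Modules.pushforward q).obj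
      (CohB1.tensorMod (Coh.structureModule Y) (CohB1.tensorPow (CohB1.tensorPow N n) a))) := by
    intro a ha
    let T := CohB1.tensorMod (Coh.structureModule Y) (CohB1.tensorPow (CohB1.tensorPow N n) a)
    have hT : PicF.IsInvertible T := isInvertible_tensorMod (ParaPair.isInvertible_structure Y) (isInvertible_tensorPow hNn a)
    have hLi := isInvertible_tensorPow hL (m * a * n)
    obtain ⟨e⟩ : Nonempty ((Scheme.Modules.pullback ψ).obj T ≅ CohB1.tensorPow L (m * a * n)) := by
      have h0 : pull ψ (clsMod hN) = clsMod hL ^ m := by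
        rw [← clsMod_pullback, ← clsMod_tensorPow hL, clsMod_eq_iff]; exact eN
      rw [← clsMod_eq_iff (isInvertible_pullback ψ hT) hLi, clsMod_pullback ψ hT,
        clsMod_tensorMod (ParaPair.isInvertible_structure Y) (isInvertible_tensorPow hNn a), map_mul,
        (clsMod_eq_one_iff (ParaPair.isInvertible_structure Y)).2 ⟨Iso.refl _⟩, map_one, one_mul,
        clsMod_tensorPow hNn, clsMod_tensorPow hN, map_pow, map_pow, h0, clsMod_tensorPow hL, ← pow_mul, ← pow_mul]
      ring_nf
    have hF := Euler.isFinLocFree_of_isInvertible hLi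
    haveI : (CohB1.tensorPow L (m * a * n)).IsQuasicoherent := (Euler.isCoh_of_isFinLocFree hF).1
    have h := isFinLocFree_push φ (LocFree8.isFP_of_isFinLocFree _ hF)
      (LocFreeHom.isFlatOver_of_isFinLocFree φ hF) fun i hi => hvan i (m * a) hi (Nat.mul_pos hm ha)
    obtain ⟨u⟩ := nonempty_push_pullback ψ hψO (Euler.isFinLocFree_of_isInvertible hT)
    exact HilbDesc10.isFinLocFree_congr ((Scheme.Modules.pushforwardCongr hψ).symm.app _ ≪≫
      (Scheme.Modules.pushforwardComp ψ q).symm.app _ ≪≫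
      (Scheme.Modules.pushforward q).mapIso ((Scheme.Modules.pushforward ψ).mapIso e.symm ≪≫ u)) h
  have h := HilbDesc10.isFlatOver_of_push_isFinLocFree q (isRelAmple_tensorPow q hN hn hNa)
    (InjFlat13.isFP_structureModule Y) 1 hfree
  exact Flat.of_stalkMap _ fun x => InjFlat13.flat_stalkMap_of_isFlatOverAt q x (h x)

end GrothLib.FlatContr29
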